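import Cfsg.Agent.H334.Ore.M22
import Cfsg.Agent.H867.Max.MTwentyTwo

/-!
# S4908, `M22`, FROB (B): the subgroups of index 22 of `M22` are the point stabilisers (helper829)
-/

set_option autoImplicit false

namespace Cfsg.Agent.H829.S8

open Cfsg MulAction Finset
open Cfsg.Agent.H334.Ore.Mat Cfsg.Agent.H334.Ore.M22Data Cfsg.Agent.H729.M22Deg
open Cfsg.Agent.SporadicStructure.M24El Cfsg.Agent.H867.Max.Oct

theorem fc_le : ∀ r ∈ D, fc r.c 1 ≤ 8 := by decide +kernel

/-- an element `≠ 1` fixes at most eight of the 24 points -/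
theorem fx_le (g : Spor.M22) (hg : g ≠ 1) : fx (inc g) ≤ 8 := by
  rcases Cfsg.Agent.H334.Ore.M22.cov g with h | ⟨r, hr, x, hx, hc⟩
  · exact absurd h hg
  · obtain ⟨c, hc⟩ := isConj_iff.1 hc
    rw [← hc, map_mul, map_mul, map_inv, fx_conj, hx]
    have h1 := Cfsg.Agent.H334.Ore.M22.hA' r hr
    unfold chkA at h1
    rw [Bool.and_eq_true] at h1
    have h2 := fx_pow (inG_iff h1.1).1 1
    rw [pow_one] at h2
    rw [h2]
    exact fc_le r hr

/-- fixed points of a permutation of prime order on an invariant set -/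
theorem count_mod {α : Type*} [DecidableEq α] {p : ℕ} [Fact p.Prime] (σ : Equiv.Perm α) (h : σ ^ p = 1) (A : Finset α)
    (hA : ∀ a ∈ A, σ a ∈ A) : A.card ≡ (A.filter fun a => σ a = a).card [MOD p] := by
  let f : Function.End {a // a ∈ A} := fun a => ⟨σ a, hA a a.2⟩
  have hf : ∀ (n : ℕ) (a : {a // a ∈ A}), (((f ^ n : Function.End {a // a ∈ A}) a : {a // a ∈ A}) : α) = (σ ^ n) a := by
    intro n
    induction n with
    | zero => intro a; rfl
    | succ n ih =>
      intro a
      rw [pow_succ' f, pow_succ' σ, Equiv.Perm.mul_apply, ← ih]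
      rfl
  have hfp : f ^ p ^ 1 = 1 := by
    funext a
    apply Subtype.ext
    rw [hf, pow_one, h]
    rfl
  have hmod := Equiv.Perm.card_fixedPoints_modEq (f := f) (p := p) (n := 1) hfp
  have h1 : Fintype.card {a // a ∈ A} = A.card := Fintype.card_coe A
  have h2 : Fintype.card (Function.fixedPoints f) = (A.filter fun a => σ a = a).card := by
    rw [← Fintype.card_coe]
    refine Fintype.card_congr
      { toFun := fun a => ⟨a.1.1, Finset.mem_filter.2 ⟨a.1.2, congrArg Subtype.val a.2⟩⟩
        invFun := fun a => ⟨⟨a.1, (Finset.mem_filter.1 a.2).1⟩, Subtype.ext (Finset.mem_filter.1 a.2).2⟩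
        left_inv := fun _ => rfl
        right_inv := fun _ => rfl }
  rw [h1, h2] at hmod
  exact hmod

theorem index_stab (p : GolayPt) (h1 : p ≠ none) (h2 : p ≠ some 0) : (stabilizer Spor.M22 p).index = 22 := by
  have h := Cfsg.Agent.H867.Max.MTwentyTwo.point.2
  have e : orbit Spor.M22 p = orbit Spor.M22 (some 1 : GolayPt) := by
    rw [MulAction.orbit_eq_iff]
    by_cases hp : p = some 1
    · rw [hp]
      exact mem_orbit_self _
    · obtain ⟨g, hg, g1, g2, g3, -⟩ := map4 (a := none) (b := some 0) (c := some 1) (d := p)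
        (a' := none) (b' := some 0) (c' := p) (d' := some 1) (by simp) (by simp) (Ne.symm h1)
        (by decide) (Ne.symm h2) (Ne.symm hp) (by simp) (Ne.symm h1) (by simp)
        (Ne.symm h2) (by decide) hp
      exact ⟨mk22 g hg g1 g2, g3⟩
  rw [index_stabilizer, e, ← index_stabilizer]
  exact h

/-- **the subgroups of index 22 of `M22` are the stabilisers of the points** -/
theorem idx22 (T : Subgroup Spor.M22) (h : T.index = 22) :
    ∃ p : GolayPt, p ≠ none ∧ p ≠ some 0 ∧ T = MulAction.stabilizer Spor.M22 p := by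
  classical
  have hfin := Cfsg.Agent.H867.Max.MTwentyTwo.fin_G
  have hG := Cfsg.Agent.H867.Max.MTwentyTwo.card_G
  have hT : Nat.card T = 20160 := by
    have h1 := T.card_mul_index
    rw [h, hG] at h1
    omega
  -- `σ t` : the permutation of the 24 points
  have hfx : ∀ t : Spor.M22, t ≠ 1 → (univ.filter fun q : GolayPt => (t : Equiv.Perm GolayPt) q = q).card ≤ 8 :=
    fun t ht => fx_le t ht
  have hpow : ∀ (t : Spor.M22) (n : ℕ), t ^ n = 1 → (t : Equiv.Perm GolayPt) ^ n = 1 := by
    intro t n htn
    rw [← Subgroup.coe_pow, htn]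
    rfl
  have hc24 : (univ : Finset GolayPt).card = 24 := by decide
  have h7 : Fact (Nat.Prime 7) := ⟨by norm_num⟩
  have h5 : Fact (Nat.Prime 5) := ⟨by norm_num⟩
  obtain ⟨z, hz⟩ := exists_prime_orderOf_dvd_card' (G := T) 7 (by rw [hT]; norm_num)
  obtain ⟨f, hf⟩ := exists_prime_orderOf_dvd_card' (G := T) 5 (by rw [hT]; norm_num)
  have hz1 : (z : Spor.M22) ≠ 1 := by
    intro h1
    have h2 : z = 1 := Subtype.ext h1
    rw [h2, orderOf_one] at hz
    omega
  have hf1 : (f : Spor.M22) ≠ 1 := by
    intro h1
    have h2 : f = 1 := Subtype.ext h1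
    rw [h2, orderOf_one] at hf
    omega
  have hzp : ((z : Spor.M22) : Equiv.Perm GolayPt) ^ 7 = 1 := by
    apply hpow
    rw [← Subgroup.coe_pow, ← hz, pow_orderOf_eq_one]
    rfl
  have hfp : ((f : Spor.M22) : Equiv.Perm GolayPt) ^ 5 = 1 := by
    apply hpow
    rw [← Subgroup.coe_pow, ← hf, pow_orderOf_eq_one]
    rfl
  obtain ⟨Fz, hFz⟩ : ∃ Fz : Finset GolayPt, Fz = univ.filter fun q => ((z : Spor.M22) : Equiv.Perm GolayPt) q = q :=
    ⟨_, rfl⟩
  have hFz3 : Fz.card = 3 := by
    have h1 := count_mod (p := 7) _ hzp univ fun _ _ => mem_univ _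
    have h2 := hfx z hz1
    rw [← hFz] at h1 h2
    rw [hc24] at h1
    unfold Nat.ModEq at h1
    omega
  have hFf4 : (univ.filter fun q => ((f : Spor.M22) : Equiv.Perm GolayPt) q = q).card = 4 := by
    have h1 := count_mod (p := 5) _ hfp univ fun _ _ => mem_univ _
    have h2 := hfx f hf1
    rw [hc24] at h1
    unfold Nat.ModEq at h1
    omega
  -- the point
  obtain ⟨p, hpF, hpn, hp0⟩ : ∃ p ∈ Fz, p ≠ none ∧ p ≠ some 0 := by
    by_contra hcon
    push Not at hcon
    have h1 : Fz ⊆ {none, some 0} := by
      intro q hq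
      by_cases hq1 : q = none
      · rw [hq1]; simp
      · rw [hcon q hq hq1]; simp
    have h2 := card_le_card h1
    have h3 : ({none, some 0} : Finset GolayPt).card = 2 := by decide
    omega
  have hnF : none ∈ Fz := by
    rw [hFz]
    exact mem_filter.2 ⟨mem_univ _, none_of_22 z⟩
  have h0F : some 0 ∈ Fz := by
    rw [hFz]
    exact mem_filter.2 ⟨mem_univ _, zero_of_22 z⟩
  have hFeq : Fz = {none, some 0, p} := by
    symm
    apply eq_of_subset_of_card_le
    · intro q hq
      simp only [mem_insert, mem_singleton] at hq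
      rcases hq with rfl | rfl | rfl
      · exact hnF
      · exact h0F
      · exact hpF
    · rw [hFz3]
      have h1 : ({none, some 0, p} : Finset GolayPt).card = 3 :=
        card_eq_three.2 ⟨none, some 0, p, by simp, Ne.symm hpn, Ne.symm hp0, rfl⟩
      omega
  refine ⟨p, hpn, hp0, ?_⟩
  -- the orbit
  obtain ⟨O, hO⟩ : ∃ O : Finset GolayPt, O = univ.filter fun q => q ∈ orbit ↥T p := ⟨_, rfl⟩
  have hmO : ∀ q, q ∈ O ↔ q ∈ orbit ↥T p := fun q => by rw [hO]; simp
  have hOT : ∀ (t : T) (q : GolayPt), q ∈ O → ((t : Spor.M22) : Equiv.Perm GolayPt) q ∈ O := by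
    intro t q hq
    rw [hmO] at hq ⊢
    exact (smul_orbit_subset t p) ⟨q, hq, rfl⟩
  have hpO : p ∈ O := (hmO p).2 (mem_orbit_self p)
  have hnO : none ∉ O := by
    intro h1
    obtain ⟨t, ht⟩ := (hmO none).1 h1
    have h2 : ((t : Spor.M22) : Equiv.Perm GolayPt) p = none := ht
    have h3 : ((t : Spor.M22) : Equiv.Perm GolayPt) none = none := none_of_22 t
    exact hpn (((t : Spor.M22) : Equiv.Perm GolayPt).injective (h2.trans h3.symm))
  have h0O : some 0 ∉ O := by
    intro h1
    obtain ⟨t, ht⟩ := (hmO (some 0)).1 h1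
    have h2 : ((t : Spor.M22) : Equiv.Perm GolayPt) p = some 0 := ht
    have h3 : ((t : Spor.M22) : Equiv.Perm GolayPt) (some 0) = some 0 := zero_of_22 t
    exact hp0 (((t : Spor.M22) : Equiv.Perm GolayPt).injective (h2.trans h3.symm))
  have hOdvd : O.card ∣ 20160 := by
    have h1 : (stabilizer T p).index = O.card := by
      rw [index_stabilizer, ← Set.ncard_coe_finset]
      congr 1
      ext q
      rw [Finset.mem_coe, hmO]
    rw [← h1, ← hT]
    exact Subgroup.index_dvd_card _
  have hO22 : O.card ≤ 22 := by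
    have h1 : O ⊆ univ \ {none, some 0} := by
      intro q hq
      rw [mem_sdiff]
      refine ⟨mem_univ _, fun h2 => ?_⟩
      simp only [mem_insert, mem_singleton] at h2
      rcases h2 with rfl | rfl
      · exact hnO hq
      · exact h0O hq
    have h2 := card_le_card h1
    have h3 : ((univ : Finset GolayPt) \ {none, some 0}).card = 22 := by decide
    omega
  have hO7 : O.card % 7 = 1 := by
    have h1 := count_mod (p := 7) _ hzp O fun q hq => hOT z q hq
    have h2 : (O.filter fun q => ((z : Spor.M22) : Equiv.Perm GolayPt) q = q) = {p} := by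
      ext q
      rw [mem_filter, mem_singleton]
      constructor
      · rintro ⟨hq1, hq2⟩
        have h3 : q ∈ Fz := by
          rw [hFz]
          exact mem_filter.2 ⟨mem_univ _, hq2⟩
        rw [hFeq] at h3
        simp only [mem_insert, mem_singleton] at h3
        rcases h3 with rfl | rfl | rfl
        · exact absurd hq1 hnO
        · exact absurd hq1 h0O
        · rfl
      · rintro rfl
        refine ⟨hpO, ?_⟩
        rw [hFz] at hpF
        exact (mem_filter.1 hpF).2
    rw [h2, card_singleton] at h1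
    exact h1
  have hO5 : O.card % 5 ≤ 2 := by
    have h1 : O.card ≡ (O.filter fun q => ((f : Spor.M22) : Equiv.Perm GolayPt) q = q).card [MOD 5] := by
      convert count_mod (p := 5) _ hfp O fun q hq => hOT f q hq
    have h2 : (O.filter fun q => ((f : Spor.M22) : Equiv.Perm GolayPt) q = q).card + 2 ≤ 4 := by
      rw [← hFf4]
      have h3 : insert none (insert (some 0) (O.filter fun q => ((f : Spor.M22) : Equiv.Perm GolayPt) q = q)) ⊆
          univ.filter fun q => ((f : Spor.M22) : Equiv.Perm GolayPt) q = q := by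
        intro q hq
        simp only [mem_insert] at hq
        rcases hq with rfl | rfl | hq
        · exact mem_filter.2 ⟨mem_univ _, none_of_22 f⟩
        · exact mem_filter.2 ⟨mem_univ _, zero_of_22 f⟩
        · exact mem_filter.2 ⟨mem_univ _, (mem_filter.1 hq).2⟩
      have h4 := card_le_card h3
      rw [card_insert_of_notMem, card_insert_of_notMem] at h4
      · exact h4
      · intro h5
        exact h0O (mem_filter.1 h5).1
      · rw [mem_insert]
        rintro (h5 | h5)
        · exact absurd h5 (by simp)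
        · exact hnO (mem_filter.1 h5).1
    unfold Nat.ModEq at h1
    rw [h1]
    exact (Nat.mod_le _ _).trans (by omega)
  have hOpos : 0 < O.card := card_pos.2 ⟨p, hpO⟩
  have hcases : O.card = 1 ∨ O.card = 15 := by
    have h1 : O.card = 1 ∨ O.card = 8 ∨ O.card = 15 ∨ O.card = 22 := by omega
    rcases h1 with h1 | h1 | h1 | h1
    · exact Or.inl h1
    · rw [h1] at hO5; omega
    · exact Or.inr h1
    · rw [h1] at hOdvd
      exact absurd hOdvd (by norm_num)
  have hO1 : O.card = 1 := by
    rcases hcases with h1 | h1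
    · exact h1
    · exfalso
      obtain ⟨R, hR⟩ : ∃ R : Finset GolayPt, R = univ \ (insert none (insert (some 0) O)) := ⟨_, rfl⟩
      have hRc : R.card = 7 := by
        rw [hR, card_sdiff_of_subset (subset_univ _), hc24, card_insert_of_notMem, card_insert_of_notMem h0O, h1]
        rw [mem_insert]
        rintro (h5 | h5)
        · exact absurd h5 (by simp)
        · exact hnO h5
      have hRm : ∀ q, q ∈ R ↔ q ≠ none ∧ q ≠ some 0 ∧ q ∉ O := by
        intro q
        rw [hR, mem_sdiff, mem_insert, mem_insert]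
        simp
      have hRT : ∀ (t : T) (q : GolayPt), q ∈ R → ((t : Spor.M22) : Equiv.Perm GolayPt) q ∈ R := by
        intro t q hq
        rw [hRm] at hq ⊢
        obtain ⟨q1, q2, q3⟩ := hq
        refine ⟨fun h2 => q1 ?_, fun h2 => q2 ?_, fun h2 => q3 ?_⟩
        · exact ((t : Spor.M22) : Equiv.Perm GolayPt).injective (h2.trans (none_of_22 t).symm)
        · exact ((t : Spor.M22) : Equiv.Perm GolayPt).injective (h2.trans (zero_of_22 t).symm)
        · have h3 := hOT t⁻¹ _ h2
          have h4 : ((t⁻¹ : T) : Spor.M22) = (t : Spor.M22)⁻¹ := rfl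
          have h5 : ((((t⁻¹ : T) : Spor.M22)) : Equiv.Perm GolayPt) (((t : Spor.M22) : Equiv.Perm GolayPt) q) = q := by
            rw [h4, Subgroup.coe_inv]
            exact Equiv.symm_apply_apply _ q
          rw [h5] at h3
          exact h3
      let φ : T → (R → R) := fun t q => ⟨((t : Spor.M22) : Equiv.Perm GolayPt) q, hRT t q q.2⟩
      have hφi : ∀ t, Function.Injective (φ t) := by
        intro t a b hab
        exact Subtype.ext (((t : Spor.M22) : Equiv.Perm GolayPt).injective (congrArg Subtype.val hab))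
      let ψ : T → (R ↪ R) := fun t => ⟨φ t, hφi t⟩
      have hni : ¬ Function.Injective ψ := by
        intro hinj
        have h2 := Nat.card_le_card_of_injective ψ hinj
        rw [hT, Nat.card_eq_fintype_card, Fintype.card_embedding_eq, Fintype.card_coe, hRc] at h2
        revert h2
        decide
      apply hni
      intro s t hst
      by_contra hne
      have h2 : (s : Spor.M22) * (t : Spor.M22)⁻¹ ≠ 1 := by
        intro h3
        exact hne (Subtype.ext (mul_inv_eq_one.1 h3))
      have h3 : (t : Spor.M22)⁻¹ * (s : Spor.M22) ≠ 1 := by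
        intro h4
        exact hne (Subtype.ext (inv_mul_eq_one.1 h4).symm)
      have h4 := hfx _ h3
      have h5 : insert none (insert (some 0) R) ⊆ univ.filter fun q =>
          (((t : Spor.M22)⁻¹ * (s : Spor.M22) : Spor.M22) : Equiv.Perm GolayPt) q = q := by
        intro q hq
        rw [mem_filter]
        refine ⟨mem_univ _, ?_⟩
        simp only [mem_insert] at hq
        rcases hq with rfl | rfl | hq
        · exact none_of_22 _
        · exact zero_of_22 _
        · have h6 : ((s : Spor.M22) : Equiv.Perm GolayPt) q = ((t : Spor.M22) : Equiv.Perm GolayPt) q := by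
            have h7 := congrArg (fun e : R ↪ R => ((e ⟨q, hq⟩ : R) : GolayPt)) hst
            exact h7
          show (((t : Spor.M22)⁻¹ : Spor.M22) : Equiv.Perm GolayPt) (((s : Spor.M22) : Equiv.Perm GolayPt) q) = q
          rw [h6, Subgroup.coe_inv]
          exact Equiv.symm_apply_apply _ q
      have h6 := card_le_card h5
      rw [card_insert_of_notMem, card_insert_of_notMem, hRc] at h6
      · omega
      · intro h7
        exact ((hRm _).1 h7).2.1 rfl
      · rw [mem_insert]
        rintro (h7 | h7)
        · exact absurd h7 (by simp)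
        · exact ((hRm _).1 h7).1 rfl
  -- conclusion
  have hle : T ≤ stabilizer Spor.M22 p := by
    intro t ht
    obtain ⟨a, ha⟩ := card_eq_one.1 hO1
    have h1 := hOT ⟨t, ht⟩ p hpO
    rw [ha, mem_singleton] at h1 hpO
    show (t : Equiv.Perm GolayPt) p = p
    exact h1.trans hpO.symm
  apply Subgroup.eq_of_le_of_card_ge hle
  have h1 := (stabilizer Spor.M22 p).card_mul_index
  rw [index_stab p hpn hp0, hG] at h1
  omega

end Cfsg.Agent.H829.S8
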